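import Mathlib
import Groth.Prelude.Def_KoszTw
import Groth.Agent.InvX.Tensor
import Groth.Agent.InvX.Frame
import Groth.Agent.FlatTwist.Frame
import Groth.Agent.QCoh.LocFree

/-!
# Twisted Koszul complexes over an affine open with a frame
-/

set_option linter.style.haveILetI false
set_option backward.isDefEq.respectTransparency false
set_option backward.isDefEq.respectTransparency.types false

universe u

open CategoryTheory CategoryTheory.Limits AlgebraicGeometry TopologicalSpace Opposite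

namespace Groth.Agent.H1KoszTw

variable {X : Scheme.{u}} {F L M N : X.Modules}

lemma tmul_frame_bijective {V : X.Opens} {e : Γ(N, V)} (he : InvX.IsFrame e) :
    Function.Bijective fun a : Γ(M, V) => SecTwist.tmul M N V a e := by
  have h := FlatTwist.bijective_tmul_frame (M := M) he (W := V) le_rfl
  rw [AModX.res_self] at h
  exact h

lemma smul_tmul {V : X.Opens} (r : Γ(X, V)) (a : Γ(M, V)) (b : Γ(N, V)) :
    SecTwist.tmul M N V (r • a) b = r • SecTwist.tmul M N V a b :=
  InvX.tmul_smul_left r a b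

lemma tmul_smul {V : X.Opens} (r : Γ(X, V)) (a : Γ(M, V)) (b : Γ(N, V)) :
    SecTwist.tmul M N V a (r • b) = r • SecTwist.tmul M N V a b :=
  InvX.tmul_smul_right r a b

lemma add_tmul {V : X.Opens} (a a' : Γ(M, V)) (b : Γ(N, V)) :
    SecTwist.tmul M N V (a + a') b = SecTwist.tmul M N V a b + SecTwist.tmul M N V a' b :=
  FlatTwist.tmul_add_left a a' b

/-- Powers of a frame are frames. -/
lemma isFrame_tprod {V : X.Opens} {e : Γ(L, V)} (he : InvX.IsFrame e) :
    ∀ q : ℕ, InvX.IsFrame (M := CohB1.tensorPow L q) (U := V) (KoszTw.tprod L q V fun _ => e)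
  | 0 => InvX.isFrame_one V
  | q + 1 => InvX.isFrame_tmul (isFrame_tprod he q) he

/-- Tensoring with a frame, as a linear equivalence. -/
noncomputable def tmulEquiv (F : X.Modules) {V : X.Opens} {e : Γ(L, V)} (he : InvX.IsFrame e) :
    Γ(F, V) ≃ₗ[Γ(X, V)] Γ(CohB1.tensorMod F L, V) :=
  LinearEquiv.ofBijective
    { toFun := fun a => SecTwist.tmul F L V a e
      map_add' := fun a b => add_tmul a b e
      map_smul' := fun r a => smul_tmul r a e }
    (tmul_frame_bijective he)

/-- Around each point there is an affine open with a frame and a basis. -/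
lemma exists_chart (hF : FlatMod.IsFinLocFree F) (hL : PicF.IsInvertible L) {x : X} {U : X.Opens}
    (hx : x ∈ U) :
    ∃ (V : X.affineOpens) (_ : x ∈ V.1) (_ : V.1 ≤ U) (e : Γ(L, V.1)),
      InvX.IsFrame e ∧ ∃ k : ℕ, Nonempty (Module.Basis (Fin k) Γ(X, V.1) Γ(F, V.1)) := by
  obtain ⟨U₁, k, hxU₁, ⟨φ⟩⟩ := hF x
  obtain ⟨U₂, hxU₂, e, he⟩ := InvX.exists_frame hL x
  obtain ⟨_, ⟨V, hV, rfl⟩, hxV, hle⟩ :=
    X.isBasis_affineOpens.exists_subset_of_mem_open (show x ∈ U ⊓ U₁ ⊓ U₂ from ⟨⟨hx, hxU₁⟩, hxU₂⟩) (U ⊓ U₁ ⊓ U₂).2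
  have hle' : V ≤ U ⊓ U₁ ⊓ U₂ := hle
  have h2 : V ≤ U₂ := hle'.trans inf_le_right
  obtain ⟨l⟩ := QCoh.free_sections (M := F) hV (hle'.trans (inf_le_left.trans inf_le_right)) φ
  exact ⟨⟨V, hV⟩, hxV, hle'.trans (inf_le_left.trans inf_le_left), AModX.res L h2 e, he.res h2, k,
    ⟨(Module.Basis.ofRepr l).reindex Equiv.ulift⟩⟩

lemma regular_of_mono (lam : Coh.structureModule X ⟶ L) [Mono lam] {V : X.Opens} {e : Γ(L, V)} {a : Γ(X, V)}
    (ha : lam.app V ((1 : Γ(X, V)) : Γ(Coh.structureModule X, V)) = a • e) {r : Γ(X, V)} (hr : r * a = 0) :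
    r = 0 := by
  have h : lam.app V (r : Γ(Coh.structureModule X, V)) = 0 := by
    refine (congrArg (lam.app V) (mul_one r).symm).trans ?_
    refine (Scheme.Modules.Hom.app_smul (M := Coh.structureModule X) lam r (1 : Γ(X, V))).trans ?_
    rw [ha, smul_smul, hr, zero_smul]
  have h2 : lam.app V (r : Γ(Coh.structureModule X, V)) = lam.app V 0 := by rw [h, map_zero]
  exact QCoh.app_injective lam V h2

section Twist

variable {s : F ⟶ Coh.structureModule X} {lam : Coh.structureModule X ⟶ L}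
  {t : CohB1.tensorMod F L ⟶ Coh.structureModule X}
  (C : KoszSh.Cx F s) (D : KoszSh.Cx (CohB1.tensorMod F L) t)
  (V : X.affineOpens) {e : Γ(L, V.1)} (he : InvX.IsFrame e) {a : Γ(X, V.1)}

/-- The twist on exterior powers. -/
noncomputable def Θ (p : ℕ) :
    ↥(⋀[Γ(X, V.1)]^p Γ(F, V.1)) →ₗ[Γ(X, V.1)] ↥(⋀[Γ(X, V.1)]^p Γ(CohB1.tensorMod F L, V.1)) :=
  exteriorPower.map p (tmulEquiv F he).toLinearMap

lemma Θ_bijective (p : ℕ) : Function.Bijective (Θ (F := F) V he p) := by
  refine Function.bijective_iff_has_inverse.2 ⟨exteriorPower.map p (tmulEquiv F he).symm.toLinearMap,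
    fun z => ?_, fun z => ?_⟩
  · rw [Θ, ← LinearMap.comp_apply, ← exteriorPower.map_comp, LinearEquiv.symm_comp, exteriorPower.map_id]
    rfl
  · rw [Θ, ← LinearMap.comp_apply, ← exteriorPower.map_comp, LinearEquiv.comp_symm, exteriorPower.map_id]
    rfl

lemma secForm_twist (htri : KoszTw.TwistTriangle s lam t)
    (ha : lam.app V.1 ((1 : Γ(X, V.1)) : Γ(Coh.structureModule X, V.1)) = a • e) (f : Γ(F, V.1)) :
    KoszSh.secForm t V.1 (tmulEquiv F he f) * a = KoszSh.secForm s V.1 f := by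
  refine he.coord_unique le_rfl ?_
  rw [AModX.res_self, mul_smul, ← ha]
  refine Eq.trans ?_ (htri V.1 f e)
  refine (Scheme.Modules.Hom.app_smul (M := Coh.structureModule X) lam
    (KoszSh.secForm t V.1 (tmulEquiv F he f)) (1 : Γ(X, V.1))).symm.trans ?_
  exact congrArg (lam.app V.1) (mul_one (KoszSh.secForm t V.1 (tmulEquiv F he f)))

/-- The twisted differential, up to the scalar. -/
lemma smul_d_twist (htri : KoszTw.TwistTriangle s lam t)
    (ha : lam.app V.1 ((1 : Γ(X, V.1)) : Γ(Coh.structureModule X, V.1)) = a • e) (p : ℕ)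
    (z : ↥(⋀[Γ(X, V.1)]^(p + 1) Γ(F, V.1))) :
    a • D.loc p V ((D.K.d (p + 1) p).app V.1 ((D.loc (p + 1) V).symm (Θ V he (p + 1) z))) =
      Θ V he p (C.loc p V ((C.K.d (p + 1) p).app V.1 ((C.loc (p + 1) V).symm z))) := by
  let dD : Γ(D.K.X (p + 1), V.1) →ₗ[Γ(X, V.1)] Γ(D.K.X p, V.1) :=
    { toFun := fun w => (D.K.d (p + 1) p).app V.1 w
      map_add' := map_add _
      map_smul' := fun r w => Scheme.Modules.Hom.app_smul _ r w }
  let dC : Γ(C.K.X (p + 1), V.1) →ₗ[Γ(X, V.1)] Γ(C.K.X p, V.1) :=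
    { toFun := fun w => (C.K.d (p + 1) p).app V.1 w
      map_add' := map_add _
      map_smul' := fun r w => Scheme.Modules.Hom.app_smul _ r w }
  let A := a • ((D.loc p V).toLinearMap.comp (dD.comp ((D.loc (p + 1) V).symm.toLinearMap.comp (Θ V he (p + 1)))))
  let B := (Θ V he p).comp ((C.loc p V).toLinearMap.comp (dC.comp (C.loc (p + 1) V).symm.toLinearMap))
  have h : A = B := by
    refine exteriorPower.linearMap_ext (AlternatingMap.ext fun f => ?_)
    show a • D.loc p V ((D.K.d (p + 1) p).app V.1 ((D.loc (p + 1) V).symm (Θ V he (p + 1) (exteriorPower.ιMulti _ (p + 1) f)))) =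
      Θ V he p (C.loc p V ((C.K.d (p + 1) p).app V.1 ((C.loc (p + 1) V).symm (exteriorPower.ιMulti _ (p + 1) f))))
    rw [Θ, exteriorPower.map_apply_ιMulti, D.rule, C.rule, LinearEquiv.apply_symm_apply,
      LinearEquiv.apply_symm_apply]
    simp only [KoszSh.dGen, map_sum, map_smul, Finset.smul_sum, Θ, exteriorPower.map_apply_ιMulti, smul_smul]
    refine Finset.sum_congr rfl fun i _ => ?_
    rw [← secForm_twist V he htri ha (f i)]
    congr 1
    show a * ((-1 : Γ(X, V.1)) ^ (i : ℕ) * KoszSh.secForm t V.1 (tmulEquiv F he (f i))) = _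
    ring
  exact LinearMap.congr_fun h z

/-- The identification, over the frame. -/
lemma theta_twist (q : ℕ) (θ : KoszTw.CxDecData C D q) (z : ↥(⋀[Γ(X, V.1)]^q Γ(F, V.1))) :
    θ.iso.hom.app V.1 ((D.loc q V).symm (Θ V he q z)) =
      SecTwist.tmul (C.K.X q) (CohB1.tensorPow L q) V.1 ((C.loc q V).symm z)
        (KoszTw.tprod L q V.1 fun _ => e) := by
  let E := KoszTw.tprod L q V.1 fun _ => e
  let T : Γ(C.K.X q, V.1) →ₗ[Γ(X, V.1)] Γ(CohB1.tensorMod (C.K.X q) (CohB1.tensorPow L q), V.1) :=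
    { toFun := fun w => SecTwist.tmul (C.K.X q) (CohB1.tensorPow L q) V.1 w E
      map_add' := fun w w' => add_tmul w w' E
      map_smul' := fun r w => smul_tmul r w E }
  let J : Γ(D.K.X q, V.1) →ₗ[Γ(X, V.1)] Γ(CohB1.tensorMod (C.K.X q) (CohB1.tensorPow L q), V.1) :=
    { toFun := fun w => θ.iso.hom.app V.1 w
      map_add' := map_add _
      map_smul' := fun r w => Scheme.Modules.Hom.app_smul _ r w }
  have h : J.comp ((D.loc q V).symm.toLinearMap.comp (Θ V he q)) = T.comp (C.loc q V).symm.toLinearMap := by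
    refine exteriorPower.linearMap_ext (AlternatingMap.ext fun f => ?_)
    show θ.iso.hom.app V.1 ((D.loc q V).symm (Θ V he q (exteriorPower.ιMulti _ q f))) =
      SecTwist.tmul _ _ V.1 ((C.loc q V).symm (exteriorPower.ιMulti _ q f)) E
    rw [Θ, exteriorPower.map_apply_ιMulti]
    exact θ.rule V f fun _ => e
  exact LinearMap.congr_fun h z

end Twist

/-- Multiplication by a regular element on an exterior power of a free module is injective. -/
lemma smul_exteriorPower_eq_zero {R M : Type u} [CommRing R] [AddCommGroup M] [Module R M] {k : ℕ}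
    (b : Module.Basis (Fin k) R M) {a : R} (ha : ∀ r : R, r * a = 0 → r = 0) (p : ℕ)
    {z : ↥(⋀[R]^p M)} (h : a • z = 0) : z = 0 := by
  refine (b.exteriorPower p).repr.injective ?_
  rw [map_zero]
  ext i
  refine ha _ ?_
  have := DFunLike.congr_fun (congrArg (b.exteriorPower p).repr h) i
  rw [map_smul, map_zero, Finsupp.smul_apply, Finsupp.zero_apply, smul_eq_mul] at this
  rw [mul_comm]
  exact this

/-- A morphism vanishing locally on sections vanishes. -/
lemma hom_eq_zero_of_locally (φ : M ⟶ N)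
    (h : ∀ (U : X.Opens) (z : Γ(M, U)), ∀ x ∈ U, ∃ (V : X.Opens) (i : V ≤ U), x ∈ V ∧
      φ.app V (M.presheaf.map (homOfLE i).op z) = 0) : φ = 0 := by
  refine Scheme.Modules.hom_ext _ _ fun U => ?_
  ext z
  refine QCoh.eq_zero_of_locally U _ fun x hx => ?_
  obtain ⟨V, i, hxV, hV⟩ := h U z x hx
  refine ⟨V, homOfLE i, hxV, ?_⟩
  rw [← QCoh.map_app_comm]
  exact hV

/-- Image subobjects compare through cokernels. -/
lemma imageSubobject_le_of_comp_cokernel {C : Type*} [Category C] [Abelian C] {A A' B : C}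
    (f : A ⟶ B) (g : A' ⟶ B) (h : f ≫ cokernel.π g = 0) : imageSubobject f ≤ imageSubobject g := by
  let S := ShortComplex.mk g (cokernel.π g) (cokernel.condition g)
  have hS : S.Exact := S.exact_of_g_is_cokernel (cokernelIsCokernel g)
  have hg : factorThruImageSubobject g ≫ (imageSubobject g).arrow = g := imageSubobject_arrow_comp g
  haveI : Epi (factorThruImageSubobject g) := inferInstance
  have h0 : (imageSubobject g).arrow ≫ cokernel.π g = 0 := by
    rw [← cancel_epi (factorThruImageSubobject g), reassoc_of% hg, cokernel.condition, comp_zero]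
  let S' := ShortComplex.mk (imageSubobject g).arrow (cokernel.π g) h0
  have hS' : S'.Exact := by
    let φ : S ⟶ S' :=
      { τ₁ := factorThruImageSubobject g
        τ₂ := 𝟙 _
        τ₃ := 𝟙 _
        comm₁₂ := hg.trans (Category.comp_id _).symm
        comm₂₃ := (Category.id_comp _).trans (Category.comp_id _).symm }
    haveI : Epi φ.τ₁ := inferInstanceAs (Epi (factorThruImageSubobject g))
    haveI : IsIso φ.τ₂ := inferInstanceAs (IsIso (𝟙 _))
    haveI : Mono φ.τ₃ := inferInstanceAs (Mono (𝟙 _))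
    exact (ShortComplex.exact_iff_of_epi_of_isIso_of_mono φ).1 hS
  haveI : Mono S'.f := inferInstanceAs (Mono (imageSubobject g).arrow)
  exact imageSubobject_le f (hS'.lift f h) (hS'.lift_f f h)

end Groth.Agent.H1KoszTw
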